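import Groth.Agent.Lib.HilbD.Basic
import Groth.Agent.Lib.Ideal.Comap
import Mathlib.RingTheory.Flat.EquationalCriterion
import Mathlib.RingTheory.Finiteness.ModuleFinitePresentation
import Mathlib.Algebra.Category.Ring.Constructions
import Mathlib.AlgebraicGeometry.Morphisms.Affine

/-!
# The content ideal of an ideal on a finite locally free scheme over the base

`content π hπ K` is the ideal sheaf on the base cutting out the locus over which `K` vanishes;
`inclLocus` is the locus where a finite locally free closed subscheme lies in another one.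
-/

universe u

open CategoryTheory CategoryTheory.Limits AlgebraicGeometry
open scoped TensorProduct

namespace Groth.Agent.Lib.HilbD.Content

set_option linter.style.haveILetI false

/-- The ideal of all coordinates of elements of `K`. -/
def contentIdeal (A : Type u) {C : Type u} [CommRing A] [AddCommGroup C] [Module A C]
    (K : Set C) : Ideal A :=
  ⨆ φ : Module.Dual A C, Ideal.span (φ '' K)

variable {A C : Type u} [CommRing A] [AddCommGroup C] [Module A C]

theorem contentIdeal_le_ker_iff [Module.Projective A C] {A' : Type u} [CommRing A'] [Algebra A A']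
    (K : Set C) :
    contentIdeal A K ≤ RingHom.ker (algebraMap A A') ↔
      ∀ x ∈ K, ((1 : A') ⊗ₜ[A] x : A' ⊗[A] C) = 0 := by
  constructor
  · intro h x hx
    obtain ⟨s, hs⟩ := (Module.projective_def').mp ‹Module.Projective A C›
    have hx' : x = Finsupp.linearCombination A id (s x) := (LinearMap.congr_fun hs x).symm
    rw [hx', Finsupp.linearCombination_apply, Finsupp.sum, TensorProduct.tmul_sum]
    refine Finset.sum_eq_zero fun c _ => ?_
    have hc : algebraMap A A' (s x c) = 0 := h ((le_iSup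
      (fun φ : Module.Dual A C => Ideal.span (φ '' K)) ((Finsupp.lapply c).comp s))
      (Ideal.subset_span ⟨x, hx, rfl⟩))
    rw [TensorProduct.tmul_smul, TensorProduct.smul_tmul', Algebra.smul_def, hc, zero_mul,
      TensorProduct.zero_tmul]
  · intro h
    refine iSup_le fun φ => Ideal.span_le.mpr ?_
    rintro _ ⟨x, hx, rfl⟩
    have := congrArg (fun z => TensorProduct.rid A A' (φ.lTensor A' z)) (h x hx)
    simpa [Algebra.smul_def, RingHom.mem_ker] using this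

variable {Z T Z' T' : Scheme.{u}}

theorem isPushout_appLE {g' : Z' ⟶ Z} {π' : Z' ⟶ T'} {π : Z ⟶ T} {g : T' ⟶ T}
    (sq : IsPullback g' π' π g) [IsAffineHom π] [IsAffineHom π'] (U : T.affineOpens)
    (U' : T'.affineOpens) (e : U'.1 ≤ g ⁻¹ᵁ U.1) (e' : π' ⁻¹ᵁ U'.1 ≤ g' ⁻¹ᵁ (π ⁻¹ᵁ U.1)) :
    IsPushout (g.appLE U.1 U'.1 e) (π.app U.1) (π'.app U'.1)
      (g'.appLE (π ⁻¹ᵁ U.1) (π' ⁻¹ᵁ U'.1) e') := by
  have hW := U.2.preimage π
  have hW' := U'.2.preimage π'
  haveI := U.2.isOpenImmersion_fromSpec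
  haveI := U'.2.isOpenImmersion_fromSpec
  haveI := hW.isOpenImmersion_fromSpec
  haveI := hW'.isOpenImmersion_fromSpec
  have key : ∀ {D B : Scheme.{u}} (ρ : D ⟶ B) {V : B.Opens} (hV : IsAffineOpen V)
      (hρ : IsAffineOpen (ρ ⁻¹ᵁ V)),
      IsPullback (Spec.map (ρ.app V)) hρ.fromSpec hV.fromSpec ρ := fun ρ V hV hρ =>
    IsOpenImmersion.isPullback (Spec.map (ρ.app V)) hρ.fromSpec hV.fromSpec ρ (by
      rw [← IsAffineOpen.SpecMap_appLE_fromSpec ρ hV hρ le_rfl, ← Scheme.Hom.app_eq_appLE])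
      (by rw [IsAffineOpen.opensRange_fromSpec, IsAffineOpen.opensRange_fromSpec])
  have h₁ := key π U.2 hW
  have h₂ := (key π' U'.2 hW').flip.paste_horiz sq
  rw [← IsAffineOpen.SpecMap_appLE_fromSpec g' hW hW' e',
    ← IsAffineOpen.SpecMap_appLE_fromSpec g U.2 U'.2 e] at h₂
  have hw : Spec.map (g'.appLE (π ⁻¹ᵁ U.1) (π' ⁻¹ᵁ U'.1) e') ≫ Spec.map (π.app U.1) =
      Spec.map (π'.app U'.1) ≫ Spec.map (g.appLE U.1 U'.1 e) := by
    rw [← Spec.map_comp, ← Spec.map_comp]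
    congr 1
    rw [Scheme.Hom.app_eq_appLE, Scheme.Hom.app_eq_appLE, Scheme.Hom.appLE_comp_appLE,
      Scheme.Hom.appLE_comp_appLE]
    simp only [sq.w]
  have h₃ := IsPullback.of_right h₂ hw h₁.flip
  exact (IsPullback.of_map Scheme.Spec
    (f := (g'.appLE (π ⁻¹ᵁ U.1) (π' ⁻¹ᵁ U'.1) e').op) (g := (π'.app U'.1).op)
    (h := (π.app U.1).op) (i := (g.appLE U.1 U'.1 e).op)
    (by
      rw [← op_comp, ← op_comp]
      exact congrArg Quiver.Hom.op (Spec.map_injective (by simpa only [Spec.map_comp] using hw))) h₃).unop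

/-- The dual, affine by affine, of a finite locally free morphism. -/
theorem projective_app (π : Z ⟶ T) (hπ : Mor2.IsFinLocFree π) (U : T.affineOpens) :
    letI := (π.app U.1).hom.toAlgebra
    Module.Projective Γ(T, U.1) Γ(Z, π ⁻¹ᵁ U.1) := by
  letI := (π.app U.1).hom.toAlgebra
  haveI := hπ.1
  haveI : Module.Finite Γ(T, U.1) Γ(Z, π ⁻¹ᵁ U.1) :=
    RingHom.finite_algebraMap.mp (π.finite_app U.1 U.2)
  have h1 := HasRingHomProperty.appLE @Flat π hπ.2.1 U ⟨π ⁻¹ᵁ U.1, U.2.preimage π⟩ le_rfl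
  have h2 := HasRingHomProperty.appLE @LocallyOfFinitePresentation π hπ.2.2 U
    ⟨π ⁻¹ᵁ U.1, U.2.preimage π⟩ le_rfl
  rw [← Scheme.Hom.app_eq_appLE] at h1 h2
  haveI : Module.Flat Γ(T, U.1) Γ(Z, π ⁻¹ᵁ U.1) := RingHom.flat_algebraMap_iff.mp h1
  haveI : Algebra.FinitePresentation Γ(T, U.1) Γ(Z, π ⁻¹ᵁ U.1) :=
    RingHom.finitePresentation_algebraMap.mp h2
  haveI : Module.FinitePresentation Γ(T, U.1) Γ(Z, π ⁻¹ᵁ U.1) :=
    Module.FinitePresentation.of_finite_of_finitePresentation _ _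
  exact Module.Flat.projective_of_finitePresentation

/-- The content ideal on one affine open of the base. -/
noncomputable def contentOn (π : Z ⟶ T) [IsAffineHom π] (K : Z.IdealSheafData)
    (U : T.affineOpens) : Ideal Γ(T, U.1) :=
  letI := (π.app U.1).hom.toAlgebra
  contentIdeal Γ(T, U.1) (K.ideal ⟨π ⁻¹ᵁ U.1, U.2.preimage π⟩ : Set Γ(Z, π ⁻¹ᵁ U.1))

theorem contentOn_le_ker_iff {g' : Z' ⟶ Z} {π' : Z' ⟶ T'} {π : Z ⟶ T} {g : T' ⟶ T}
    (sq : IsPullback g' π' π g) [IsAffineHom π] [IsAffineHom π'] (hπ : Mor2.IsFinLocFree π)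
    (K : Z.IdealSheafData) (U : T.affineOpens) (U' : T'.affineOpens) (e : U'.1 ≤ g ⁻¹ᵁ U.1) :
    contentOn π K U ≤ RingHom.ker (g.appLE U.1 U'.1 e).hom ↔
      (K.comap g').ideal ⟨π' ⁻¹ᵁ U'.1, U'.2.preimage π'⟩ = ⊥ := by
  have e' : π' ⁻¹ᵁ U'.1 ≤ g' ⁻¹ᵁ (π ⁻¹ᵁ U.1) := by
    rw [← Scheme.Hom.comp_preimage, sq.w, Scheme.Hom.comp_preimage]
    exact π'.preimage_mono e
  letI := (π.app U.1).hom.toAlgebra
  haveI := projective_app π hπ U
  letI := (g.appLE U.1 U'.1 e).hom.toAlgebra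
  letI := (π'.app U'.1).hom.toAlgebra
  letI := (g'.appLE (π ⁻¹ᵁ U.1) (π' ⁻¹ᵁ U'.1) e').hom.toAlgebra
  letI := ((π'.app U'.1).hom.comp (g.appLE U.1 U'.1 e).hom).toAlgebra
  have hpush := isPushout_appLE sq U U' e e'
  haveI : IsScalarTower Γ(T, U.1) Γ(T', U'.1) Γ(Z', π' ⁻¹ᵁ U'.1) := .of_algebraMap_eq' rfl
  haveI : IsScalarTower Γ(T, U.1) Γ(Z, π ⁻¹ᵁ U.1) Γ(Z', π' ⁻¹ᵁ U'.1) :=
    .of_algebraMap_eq' (congrArg CommRingCat.Hom.hom hpush.w)
  have hp : Algebra.IsPushout Γ(T, U.1) Γ(T', U'.1) Γ(Z, π ⁻¹ᵁ U.1) Γ(Z', π' ⁻¹ᵁ U'.1) :=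
    CommRingCat.isPushout_iff_isPushout.mp hpush
  rw [Ideal.Comap.ideal_comap g' K ⟨π ⁻¹ᵁ U.1, U.2.preimage π⟩ ⟨π' ⁻¹ᵁ U'.1, U'.2.preimage π'⟩ e',
    Ideal.map_eq_bot_iff_le_ker]
  refine (contentIdeal_le_ker_iff (A' := Γ(T', U'.1)) _).trans ?_
  refine forall₂_congr fun x _ => ?_
  rw [RingHom.mem_ker, ← hp.out.equiv.map_eq_zero_iff, IsBaseChange.equiv_tmul, one_smul]
  rfl

set_option backward.isDefEq.respectTransparency false in
theorem appLE_SpecMap_fromSpec {V : T.Opens} (hV : IsAffineOpen V) {B : CommRingCat.{u}}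
    (φ : Γ(T, V) ⟶ B) (e : ⊤ ≤ (Spec.map φ ≫ hV.fromSpec) ⁻¹ᵁ V) :
    (Spec.map φ ≫ hV.fromSpec).appLE V ⊤ e = φ ≫ (Scheme.ΓSpecIso B).inv := by
  rw [Scheme.Hom.comp_appLE, IsAffineOpen.fromSpec_app_self, Category.assoc,
    Scheme.Hom.map_appLE, Scheme.ΓSpecIso_inv_naturality]
  congr 1

variable (π : Z ⟶ T) (hπ : Mor2.IsFinLocFree π) (K : Z.IdealSheafData)

/-- The ideal sheaf of the locus of the base over which `K` vanishes. -/
noncomputable def content : T.IdealSheafData where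
  ideal U :=
    haveI := hπ.1
    contentOn π K U
  map_ideal_basicOpen U a := by
    haveI := hπ.1
    let U' : T.affineOpens := T.affineBasicOpen a
    have e : U'.1 ≤ (𝟙 T : T ⟶ T) ⁻¹ᵁ U.1 := T.basicOpen_le a
    have sq : IsPullback (𝟙 Z) π π (𝟙 T) := IsPullback.of_id_fst
    have hres : (Scheme.Hom.appLE (𝟙 T) U.1 U'.1 e) =
        T.presheaf.map (homOfLE (T.basicOpen_le a)).op := by
      rw [Scheme.Hom.appLE, Scheme.Hom.id_app]
      exact Category.id_comp _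
    let r : Γ(T, U.1) →+* Γ(T, U'.1) := (T.presheaf.map (homOfLE (T.basicOpen_le a)).op).hom
    set 𝔞 := Ideal.map r (contentOn π K U) with h𝔞
    have hiff : ∀ {B : Type u} [CommRing B] (φ : Γ(T, U'.1) →+* B),
        contentOn π K U' ≤ RingHom.ker φ ↔ contentOn π K U ≤ RingHom.ker (φ.comp r) := by
      intro B _ φ
      letI := (π.app U.1).hom.toAlgebra
      letI := (π.app U'.1).hom.toAlgebra
      let g := Spec.map (CommRingCat.ofHom φ) ≫ U'.2.fromSpec
      let V : (Spec (CommRingCat.of B)).affineOpens := ⟨⊤, isAffineOpen_top _⟩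
      have sq' := (IsPullback.of_hasPullback π g)
      haveI : IsFinite π := hπ.1
      have hU' : V.1 ≤ g ⁻¹ᵁ U'.1 := fun x _ => by
        show U'.2.fromSpec (Spec.map (CommRingCat.ofHom φ) x) ∈ U'.1
        rw [← SetLike.mem_coe, ← U'.2.range_fromSpec]; exact ⟨_, rfl⟩
      have hU : V.1 ≤ g ⁻¹ᵁ U.1 := hU'.trans (g.preimage_mono (T.basicOpen_le a))
      have h1 := contentOn_le_ker_iff sq' hπ K U' V hU'
      have h2 := contentOn_le_ker_iff sq' hπ K U V hU
      have hg : (g.appLE U'.1 V.1 hU').hom =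
          (Scheme.ΓSpecIso (CommRingCat.of B)).inv.hom.comp φ := by
        have : g.appLE U'.1 V.1 hU' =
            CommRingCat.ofHom φ ≫ (Scheme.ΓSpecIso (CommRingCat.of B)).inv :=
          appLE_SpecMap_fromSpec U'.2 _ _
        rw [this]; rfl
      have hgU : (g.appLE U.1 V.1 hU).hom = (g.appLE U'.1 V.1 hU').hom.comp r :=
        (congrArg CommRingCat.Hom.hom (g.map_appLE hU' (homOfLE (T.basicOpen_le a)).op)).symm
      have hinj : Function.Injective (Scheme.ΓSpecIso (CommRingCat.of B)).inv.hom :=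
        (ConcreteCategory.bijective_of_isIso (Scheme.ΓSpecIso (CommRingCat.of B)).inv).1
      rw [hgU, hg, RingHom.comp_assoc, RingHom.ker_comp_of_injective _ hinj] at h2
      rw [hg, RingHom.ker_comp_of_injective _ hinj] at h1
      exact h1.trans h2.symm
    show 𝔞 = contentOn π K U'
    apply le_antisymm
    · rw [h𝔞, Ideal.map_le_iff_le_comap]
      have := (hiff (Ideal.Quotient.mk (contentOn π K U'))).mp (by rw [Ideal.mk_ker])
      rwa [← RingHom.comap_ker, Ideal.mk_ker] at this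
    · have := (hiff (Ideal.Quotient.mk 𝔞)).mpr (by
        rw [← RingHom.comap_ker, Ideal.mk_ker]; exact Ideal.le_comap_map)
      rwa [Ideal.mk_ker] at this

/-- The defining property of the content ideal. -/
theorem content_comap_eq_bot_iff {g' : Z' ⟶ Z} {π' : Z' ⟶ T'} {g : T' ⟶ T}
    (sq : IsPullback g' π' π g) :
    (content π hπ K).comap g = ⊥ ↔ K.comap g' = ⊥ := by
  haveI := hπ.1
  haveI : IsFinite π' := MorphismProperty.of_isPullback sq hπ.1
  have hcov : ∀ x : T', ∃ (U : T.affineOpens) (U' : T'.affineOpens),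
      x ∈ U'.1 ∧ U'.1 ≤ g ⁻¹ᵁ U.1 := fun x => by
    obtain ⟨U, U', -, hx, -, -, hle⟩ := Ideal.Comap.exists_affine_le_preimage g x
      (W := ⊤) trivial (U := ⊤) trivial
    exact ⟨U, U', hx, hle⟩
  choose U U' hx hle using hcov
  have htop : ⨆ x, (U' x).1 = ⊤ := eq_top_iff.mpr fun x _ =>
    TopologicalSpace.Opens.mem_iSup.mpr ⟨x, hx x⟩
  have htop' : ⨆ x, π' ⁻¹ᵁ (U' x).1 = ⊤ := eq_top_iff.mpr fun z _ =>
    TopologicalSpace.Opens.mem_iSup.mpr ⟨π' z, hx (π' z)⟩
  have hkey : ∀ x, ((content π hπ K).comap g).ideal (U' x) = ⊥ ↔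
      (K.comap g').ideal ⟨π' ⁻¹ᵁ (U' x).1, (U' x).2.preimage π'⟩ = ⊥ := fun x => by
    rw [Ideal.Comap.ideal_comap g _ (U x) (U' x) (hle x), Ideal.map_eq_bot_iff_le_ker]
    exact contentOn_le_ker_iff sq hπ K (U x) (U' x) (hle x)
  constructor
  · intro h
    refine Scheme.IdealSheafData.ext_of_iSup_eq_top
      (fun x => ⟨π' ⁻¹ᵁ (U' x).1, (U' x).2.preimage π'⟩) htop' fun x => ?_
    rw [Scheme.IdealSheafData.ideal_bot, Pi.bot_apply]
    exact (hkey x).mp (by rw [h, Scheme.IdealSheafData.ideal_bot, Pi.bot_apply])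
  · intro h
    refine Scheme.IdealSheafData.ext_of_iSup_eq_top U' htop fun x => ?_
    rw [Scheme.IdealSheafData.ideal_bot, Pi.bot_apply]
    exact (hkey x).mpr (by rw [h, Scheme.IdealSheafData.ideal_bot, Pi.bot_apply])

section Incl

variable {Y Y' : Scheme.{u}} {p : Y ⟶ T} {p' : Y' ⟶ T'} {gY : Y' ⟶ Y} {g : T' ⟶ T}

/-- The locus of the base over which `V(I) ⊆ V(J)`. -/
noncomputable def inclLocus (p : Y ⟶ T) (I : Y.IdealSheafData)
    (hI : Mor2.IsFinLocFree (I.subschemeι ≫ p)) (J : Y.IdealSheafData) : T.IdealSheafData :=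
  content (I.subschemeι ≫ p) hI (J.comap I.subschemeι)

theorem inclLocus_comap_eq_bot_iff (sq : IsPullback gY p' p g) (I : Y.IdealSheafData)
    (hI : Mor2.IsFinLocFree (I.subschemeι ≫ p)) (J : Y.IdealSheafData) :
    (inclLocus p I hI J).comap g = ⊥ ↔ J.comap gY ≤ I.comap gY := by
  rw [Basic.comap_le_comap_iff]
  exact content_comap_eq_bot_iff _ hI _ (Basic.isPullback_comap_proj sq I)

/-- The locus of the base over which two finite locally free closed subschemes coincide. -/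
noncomputable def eqLocus (p : Y ⟶ T) (I J : Y.IdealSheafData)
    (hI : Mor2.IsFinLocFree (I.subschemeι ≫ p)) (hJ : Mor2.IsFinLocFree (J.subschemeι ≫ p)) :
    T.IdealSheafData :=
  inclLocus p I hI J ⊔ inclLocus p J hJ I

theorem eqLocus_comap_eq_bot_iff (sq : IsPullback gY p' p g) (I J : Y.IdealSheafData)
    (hI : Mor2.IsFinLocFree (I.subschemeι ≫ p)) (hJ : Mor2.IsFinLocFree (J.subschemeι ≫ p)) :
    (eqLocus p I J hI hJ).comap g = ⊥ ↔ I.comap gY = J.comap gY := by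
  rw [eqLocus, Scheme.IdealSheafData.comap_sup, sup_eq_bot_iff,
    inclLocus_comap_eq_bot_iff sq, inclLocus_comap_eq_bot_iff sq]
  exact ⟨fun h => le_antisymm h.2 h.1, fun h => ⟨h.ge, h.le⟩⟩

end Incl

end Groth.Agent.Lib.HilbD.Content
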