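import Groth.Prelude.Def_HilbD
import Groth.Prelude.Def_AlgSpMor5
import Mathlib.AlgebraicGeometry.IdealSheaf.Functorial

/-!
# The Hilbert functor of points: base change is `comap`
-/

universe u

open CategoryTheory CategoryTheory.Limits AlgebraicGeometry

namespace Groth.Agent.Lib.HilbD.Basic

set_option backward.isDefEq.respectTransparency false

variable {X S : Scheme.{u}} (f : X ⟶ S)

theorem pull_eq_comap {T T' : Over S} (g : T' ⟶ T) (I : (PicF.XT f T).IdealSheafData) :
    _root_.HilbD.pull f g I = I.comap (PicF.XTmap f g) := by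
  show (pullback.snd I.subschemeι (PicF.XTmap f g)).ker = _
  rw [Scheme.IdealSheafData.comap,
    ← Scheme.Hom.ker_comp_of_isIso (pullbackSymmetry I.subschemeι (PicF.XTmap f g)).inv,
    pullbackSymmetry_inv_comp_snd]

theorem XTmap_fst {T T' : Over S} (g : T' ⟶ T) :
    PicF.XTmap f g ≫ pullback.fst f T.hom = pullback.fst f T'.hom := by simp [PicF.XTmap]

theorem XTmap_snd {T T' : Over S} (g : T' ⟶ T) :
    PicF.XTmap f g ≫ PicF.XTproj f T = PicF.XTproj f T' ≫ g.left := by simp [PicF.XTmap]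

theorem XTmap_id (T : Over S) : PicF.XTmap f (𝟙 T) = 𝟙 _ := by
  apply pullback.hom_ext <;> simp [PicF.XTmap]

theorem XTmap_comp {T T' T'' : Over S} (g : T' ⟶ T) (h : T'' ⟶ T') :
    PicF.XTmap f (h ≫ g) = PicF.XTmap f h ≫ PicF.XTmap f g := by
  apply pullback.hom_ext <;> simp [PicF.XTmap]

theorem pull_id (T : Over S) (I : (PicF.XT f T).IdealSheafData) :
    _root_.HilbD.pull f (𝟙 T) I = I := by
  rw [pull_eq_comap, XTmap_id, Scheme.IdealSheafData.comap_id]

theorem pull_comp {T T' T'' : Over S} (g : T' ⟶ T) (h : T'' ⟶ T')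
    (I : (PicF.XT f T).IdealSheafData) :
    _root_.HilbD.pull f (h ≫ g) I = _root_.HilbD.pull f h (_root_.HilbD.pull f g I) := by
  rw [pull_eq_comap, pull_eq_comap, pull_eq_comap, XTmap_comp, Scheme.IdealSheafData.comap_comp]

theorem isPullback_XTmap {T T' : Over S} (g : T' ⟶ T) :
    IsPullback (PicF.XTmap f g) (PicF.XTproj f T') (PicF.XTproj f T) g.left := by
  refine IsPullback.of_right (h₁₂ := pullback.fst f T.hom) (v₁₃ := f) (h₂₂ := T.hom) ?_
    (XTmap_snd f g) (IsPullback.of_hasPullback f T.hom)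
  rw [XTmap_fst, Over.w g]
  exact IsPullback.of_hasPullback f T'.hom

/-- The map of closed subschemes `V(I.comap h) ⟶ V(I)`. -/
noncomputable def comapMap {Y' Y : Scheme.{u}} (h : Y' ⟶ Y) (I : Y.IdealSheafData) :
    (I.comap h).subscheme ⟶ I.subscheme :=
  (I.comapIso h).hom ≫ pullback.snd _ _

theorem isPullback_comapMap {Y' Y : Scheme.{u}} (h : Y' ⟶ Y) (I : Y.IdealSheafData) :
    IsPullback (comapMap h I) (I.comap h).subschemeι I.subschemeι h := by
  refine (IsPullback.of_hasPullback h I.subschemeι).flip.of_iso (I.comapIso h).symm (Iso.refl _)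
    (Iso.refl _) (Iso.refl _) ?_ ?_ ?_ ?_
  · simp only [comapMap, Iso.refl_hom, Category.comp_id, Iso.symm_hom, Iso.inv_hom_id_assoc]
  · simp
  · simp
  · simp

theorem isPullback_comap_proj {Y' Y T' T : Scheme.{u}} {gY : Y' ⟶ Y} {p' : Y' ⟶ T'} {p : Y ⟶ T}
    {g : T' ⟶ T} (sq : IsPullback gY p' p g) (I : Y.IdealSheafData) :
    IsPullback (comapMap gY I) ((I.comap gY).subschemeι ≫ p') (I.subschemeι ≫ p) g :=
  (isPullback_comapMap gY I).paste_vert sq

theorem finLocFreeOfDeg_comap {Y' Y T' T : Scheme.{u}} {gY : Y' ⟶ Y} {p' : Y' ⟶ T'} {p : Y ⟶ T}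
    {g : T' ⟶ T} (sq : IsPullback gY p' p g) {d : ℕ} {I : Y.IdealSheafData}
    (h : Mor2.IsFinLocFreeOfDeg d (I.subschemeι ≫ p)) :
    Mor2.IsFinLocFreeOfDeg d ((I.comap gY).subschemeι ≫ p') :=
  MorphismProperty.of_isPullback (P := AlgSp.finLocFreeOfDeg d) (isPullback_comap_proj sq I) h

/-- Base change of a family. -/
noncomputable def pullObj {d : ℕ} {T T' : Over S} (g : T' ⟶ T) (Z : _root_.HilbD.Obj f d T) :
    _root_.HilbD.Obj f d T' :=
  ⟨_root_.HilbD.pull f g Z.1, by
    rw [pull_eq_comap]; exact finLocFreeOfDeg_comap (isPullback_XTmap f g) Z.2⟩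

/-- Two morphisms into a representing scheme with the same family are equal. -/
theorem hom_ext {d : ℕ} {H : Over S} {Z : _root_.HilbD.Obj f d H}
    (hZ : _root_.HilbD.IsUniversal f d H Z) {T : Over S} {g₁ g₂ : T ⟶ H}
    (h : _root_.HilbD.pull f g₁ Z.1 = _root_.HilbD.pull f g₂ Z.1) : g₁ = g₂ :=
  (hZ T (pullObj f g₁ Z)).unique rfl h.symm

/-- `J.comap gY ≤ I.comap gY` as vanishing on the base change of `V(I)`. -/
theorem comap_le_comap_iff {Y' Y : Scheme.{u}} (gY : Y' ⟶ Y) (I J : Y.IdealSheafData) :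
    J.comap gY ≤ I.comap gY ↔ (J.comap I.subschemeι).comap (comapMap gY I) = ⊥ := by
  rw [← Scheme.IdealSheafData.comap_comp, (isPullback_comapMap gY I).w,
    Scheme.IdealSheafData.comap_comp, ← le_bot_iff, ← Scheme.IdealSheafData.le_map_iff_comap_le (I := ⊥),
    Scheme.IdealSheafData.map_bot, Scheme.IdealSheafData.ker_subschemeι]

/-- Factoring through a closed subscheme. -/
theorem exists_lift_iff {T' T : Scheme.{u}} (g : T' ⟶ T) (a : T.IdealSheafData) :
    (∃ h, h ≫ a.subschemeι = g) ↔ a.comap g = ⊥ := by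
  constructor
  · rintro ⟨h, rfl⟩
    rw [← le_bot_iff, ← Scheme.IdealSheafData.le_map_iff_comap_le, Scheme.IdealSheafData.map_bot]
    exact a.ker_subschemeι.ge.trans (Scheme.Hom.le_ker_comp _ _)
  · intro h
    refine ⟨IsClosedImmersion.lift a.subschemeι g ?_, IsClosedImmersion.lift_fac _ _ _⟩
    rw [Scheme.IdealSheafData.ker_subschemeι, ← Scheme.IdealSheafData.map_bot,
      Scheme.IdealSheafData.le_map_iff_comap_le, h]

end Groth.Agent.Lib.HilbD.Basic
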