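import Groth.Agent.Lib.HilbD.Basic
import Mathlib.AlgebraicGeometry.Morphisms.ClosedImmersion

/-!
# Graphs of sections and families of degree one
-/

universe u

open CategoryTheory CategoryTheory.Limits AlgebraicGeometry

namespace Groth.Agent.Lib.HilbD.Sec

set_option linter.style.haveILetI false
set_option backward.isDefEq.respectTransparency false

variable {X S : Scheme.{u}} (f : X ⟶ S)

/-- The section of `X_T ⟶ T` given by `x`. -/
noncomputable def sec (T : Over S) (x : T.left ⟶ X) (hx : x ≫ f = T.hom) : T.left ⟶ PicF.XT f T :=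
  pullback.lift x (𝟙 T.left) (by simpa using hx)

theorem sec_fst (T : Over S) (x : T.left ⟶ X) (hx : x ≫ f = T.hom) :
    sec f T x hx ≫ pullback.fst f T.hom = x := pullback.lift_fst _ _ _

theorem sec_proj (T : Over S) (x : T.left ⟶ X) (hx : x ≫ f = T.hom) :
    sec f T x hx ≫ PicF.XTproj f T = 𝟙 _ := pullback.lift_snd _ _ _

instance [IsSeparated f] (T : Over S) (x : T.left ⟶ X) (hx : x ≫ f = T.hom) :
    IsClosedImmersion (sec f T x hx) := by
  haveI : IsClosedImmersion (sec f T x hx ≫ PicF.XTproj f T) := by rw [sec_proj]; infer_instance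
  exact IsClosedImmersion.of_comp (sec f T x hx) (PicF.XTproj f T)

theorem secGraph_eq (T : Over S) (x : T.left ⟶ X) (hx : x ≫ f = T.hom) :
    _root_.HilbD.secGraph f T x hx = (sec f T x hx).ker := rfl

theorem pull_secGraph [IsSeparated f] {T T' : Over S} (q : T' ⟶ T) (x : T.left ⟶ X)
    (hx : x ≫ f = T.hom) :
    _root_.HilbD.pull f q (_root_.HilbD.secGraph f T x hx) =
      _root_.HilbD.secGraph f T' (q.left ≫ x) (by rw [Category.assoc, hx, Over.w q]) := by
  rw [secGraph_eq, secGraph_eq, Basic.pull_eq_comap]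
  have sq : IsPullback q.left (sec f T' (q.left ≫ x) (by rw [Category.assoc, hx, Over.w q]))
      (sec f T x hx) (PicF.XTmap f q) := by
    refine IsPullback.of_bot ?_ ?_ (Basic.isPullback_XTmap f q)
    · rw [sec_proj, sec_proj]; exact IsPullback.of_vert_isIso ⟨by simp⟩
    · apply pullback.hom_ext
      · rw [Category.assoc, Category.assoc, sec_fst, Basic.XTmap_fst, sec_fst]
      · rw [Category.assoc, Category.assoc, sec_proj, Basic.XTmap_snd, ← Category.assoc _ (PicF.XTproj f T'),
          sec_proj, Category.id_comp, Category.comp_id]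
  rw [← Scheme.IdealSheafData.ker_fst_of_isClosedImmersion, ← sq.flip.isoPullback_inv_fst,
    Scheme.Hom.ker_comp_of_isIso]

theorem finLocFreeOfDeg_one_of_isIso {A B : Scheme.{u}} (f : A ⟶ B) [IsIso f] :
    Mor2.IsFinLocFreeOfDeg 1 f :=
  ⟨⟨inferInstance, inferInstance, inferInstance⟩, fun y =>
    (congrFun (Scheme.Hom.finrank_eq_one_of_isIso f) y).trans rfl⟩

theorem finLocFreeOfDeg_one_iff {A B : Scheme.{u}} (f : A ⟶ B) :
    Mor2.IsFinLocFreeOfDeg 1 f ↔ IsIso f := by
  refine ⟨fun h => ?_, fun h => finLocFreeOfDeg_one_of_isIso f⟩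
  obtain ⟨h1, h2, h3⟩ := h.1
  exact (Scheme.Hom.isIso_iff_finrank_eq f).mpr (funext fun y => (h.2 y).trans rfl)

theorem finLocFreeOfDeg_secGraph [IsSeparated f] (T : Over S) (x : T.left ⟶ X)
    (hx : x ≫ f = T.hom) :
    Mor2.IsFinLocFreeOfDeg 1
      ((_root_.HilbD.secGraph f T x hx).subschemeι ≫ PicF.XTproj f T) := by
  rw [finLocFreeOfDeg_one_iff]
  have h : (sec f T x hx).toImage ≫ (_root_.HilbD.secGraph f T x hx).subschemeι = sec f T x hx :=
    (sec f T x hx).toImage_imageι
  have h1 : (sec f T x hx).toImage ≫ (_root_.HilbD.secGraph f T x hx).subschemeι ≫ PicF.XTproj f T =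
      𝟙 _ := by rw [← Category.assoc, h, sec_proj]
  haveI : IsIso ((sec f T x hx).toImage ≫
      (_root_.HilbD.secGraph f T x hx).subschemeι ≫ PicF.XTproj f T) := by
    rw [h1]; infer_instance
  exact IsIso.of_isIso_comp_left (sec f T x hx).toImage _

/-- A family of degree one is the graph of a section. -/
theorem exists_eq_secGraph (T : Over S) (W : _root_.HilbD.Obj f 1 T) :
    ∃ (x : T.left ⟶ X) (hx : x ≫ f = T.hom), W.1 = _root_.HilbD.secGraph f T x hx := by
  haveI : IsIso (W.1.subschemeι ≫ PicF.XTproj f T) := (finLocFreeOfDeg_one_iff _).mp W.2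
  have hs : inv (W.1.subschemeι ≫ PicF.XTproj f T) ≫ W.1.subschemeι ≫ PicF.XTproj f T = 𝟙 _ :=
    IsIso.inv_hom_id _
  refine ⟨inv (W.1.subschemeι ≫ PicF.XTproj f T) ≫ W.1.subschemeι ≫ pullback.fst f T.hom, ?_, ?_⟩
  · rw [Category.assoc, Category.assoc, pullback.condition]
    calc _ = (inv (W.1.subschemeι ≫ PicF.XTproj f T) ≫ W.1.subschemeι ≫ PicF.XTproj f T) ≫ T.hom :=
          by simp [Category.assoc]
      _ = T.hom := by rw [hs, Category.id_comp]
  · have h2 : sec f T (inv (W.1.subschemeι ≫ PicF.XTproj f T) ≫ W.1.subschemeι ≫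
        pullback.fst f T.hom) (by
          rw [Category.assoc, Category.assoc, pullback.condition]
          calc _ = (inv (W.1.subschemeι ≫ PicF.XTproj f T) ≫ W.1.subschemeι ≫ PicF.XTproj f T) ≫
                T.hom := by simp [Category.assoc]
            _ = T.hom := by rw [hs, Category.id_comp]) =
        inv (W.1.subschemeι ≫ PicF.XTproj f T) ≫ W.1.subschemeι := by
      apply pullback.hom_ext
      · rw [sec_fst, Category.assoc]
      · rw [sec_proj, Category.assoc]; exact hs.symm
    rw [secGraph_eq, h2, Scheme.Hom.ker_comp_of_isIso, Scheme.IdealSheafData.ker_subschemeι]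

end Groth.Agent.Lib.HilbD.Sec
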