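import Groth.Agent.Lib.HilbD.Basic
import Mathlib.AlgebraicGeometry.Morphisms.ClosedImmersion

/-!
# Closed immersions and the Hilbert functor of points
-/

universe u

open CategoryTheory CategoryTheory.Limits AlgebraicGeometry

namespace Groth.Agent.Lib.HilbD.Closed

set_option linter.style.haveILetI false
set_option backward.isDefEq.respectTransparency false

variable {A B : Scheme.{u}}

theorem comap_ker_comp {D : Scheme.{u}} (h : D ⟶ A) [IsClosedImmersion h] (m : A ⟶ B)
    [IsClosedImmersion m] : (h ≫ m).ker.comap m = h.ker := by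
  have sq : IsPullback h (𝟙 D) m (h ≫ m) := by
    refine ⟨⟨by simp⟩, ⟨PullbackCone.IsLimit.mk _ (fun s => s.snd) (fun s => ?_) (fun s => ?_)
      (fun s l _ hl => ?_)⟩⟩
    · rw [← cancel_mono m, Category.assoc]; exact s.condition.symm
    · exact Category.comp_id _
    · simpa using hl
  rw [← Scheme.IdealSheafData.ker_fst_of_isClosedImmersion, ← sq.isoPullback_inv_fst,
    Scheme.Hom.ker_comp_of_isIso]

theorem comap_map {I : A.IdealSheafData} (m : A ⟶ B) [IsClosedImmersion m] :
    (I.map m).comap m = I := by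
  rw [Scheme.IdealSheafData.map, comap_ker_comp, Scheme.IdealSheafData.ker_subschemeι]

/-- A closed subscheme of the target contained in a closed subscheme `A`, seen in `A`. -/
theorem exists_iso (m : A ⟶ B) [IsClosedImmersion m] {J : B.IdealSheafData} (hJ : m.ker ≤ J) :
    ∃ e : (J.comap m).subscheme ≅ J.subscheme,
      e.hom ≫ J.subschemeι = (J.comap m).subschemeι ≫ m := by
  let h := IsClosedImmersion.lift m J.subschemeι (by rwa [Scheme.IdealSheafData.ker_subschemeι])
  have hh : h ≫ m = J.subschemeι := IsClosedImmersion.lift_fac _ _ _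
  haveI : IsClosedImmersion (h ≫ m) := by rw [hh]; infer_instance
  haveI : IsClosedImmersion h := IsClosedImmersion.of_comp_isClosedImmersion h m
  have hk : h.ker = J.comap m := by
    rw [← comap_ker_comp h m, hh, Scheme.IdealSheafData.ker_subschemeι]
  let k := IsClosedImmersion.lift (J.comap m).subschemeι h
    (by rw [Scheme.IdealSheafData.ker_subschemeι, hk])
  have hk' : k ≫ (J.comap m).subschemeι = h := IsClosedImmersion.lift_fac _ _ _
  haveI : IsIso k := IsClosedImmersion.isIso_of_ker_eq h (J.comap m).subschemeι k hk'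
    (by rw [Scheme.IdealSheafData.ker_subschemeι, hk])
  exact ⟨(asIso k).symm, by
    rw [Iso.symm_hom, asIso_inv, IsIso.inv_comp_eq, ← Category.assoc, hk', hh]⟩

theorem map_comap (m : A ⟶ B) [IsClosedImmersion m] {J : B.IdealSheafData} (hJ : m.ker ≤ J) :
    (J.comap m).map m = J := by
  obtain ⟨e, he⟩ := exists_iso m hJ
  rw [Scheme.IdealSheafData.map, ← he, Scheme.Hom.ker_comp_of_isIso,
    Scheme.IdealSheafData.ker_subschemeι]

theorem finLocFreeOfDeg_comap {T : Scheme.{u}} (m : A ⟶ B) [IsClosedImmersion m]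
    {J : B.IdealSheafData} (hJ : m.ker ≤ J) {p : A ⟶ T} {q : B ⟶ T} (hm : m ≫ q = p) {d : ℕ}
    (h : Mor2.IsFinLocFreeOfDeg d (J.subschemeι ≫ q)) :
    Mor2.IsFinLocFreeOfDeg d ((J.comap m).subschemeι ≫ p) := by
  obtain ⟨e, he⟩ := exists_iso m hJ
  have : (J.comap m).subschemeι ≫ p = e.hom ≫ J.subschemeι ≫ q := by
    rw [← Category.assoc, he, Category.assoc, hm]
  rw [this]
  exact (MorphismProperty.cancel_left_of_respectsIso (AlgSp.finLocFreeOfDeg d) e.hom _).mpr h

theorem finLocFreeOfDeg_map {T : Scheme.{u}} (m : A ⟶ B) [IsClosedImmersion m]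
    (I : A.IdealSheafData) {p : A ⟶ T} {q : B ⟶ T} (hm : m ≫ q = p) {d : ℕ}
    (h : Mor2.IsFinLocFreeOfDeg d (I.subschemeι ≫ p)) :
    Mor2.IsFinLocFreeOfDeg d ((I.map m).subschemeι ≫ q) := by
  have hle : m.ker ≤ I.map m := Scheme.Hom.le_ker_comp _ _
  obtain ⟨e, he⟩ := exists_iso m hle
  have h' : Mor2.IsFinLocFreeOfDeg d (((I.map m).comap m).subschemeι ≫ p) := by
    rwa [comap_map]
  have : ((I.map m).comap m).subschemeι ≫ p = e.hom ≫ (I.map m).subschemeι ≫ q := by
    rw [← hm, ← Category.assoc, ← he, Category.assoc]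
  rw [this] at h'
  exact (MorphismProperty.cancel_left_of_respectsIso (AlgSp.finLocFreeOfDeg d) e.hom _).mp h'

variable {X Y S : Scheme.{u}} (i : X ⟶ Y) (g : Y ⟶ S)

/-- The map `X ×_S T ⟶ Y ×_S T`. -/
noncomputable def mapXT (T : Over S) : PicF.XT (i ≫ g) T ⟶ PicF.XT g T :=
  pullback.map (i ≫ g) T.hom g T.hom i (𝟙 _) (𝟙 S) (Category.comp_id _) (by simp)

theorem mapXT_fst (T : Over S) :
    mapXT i g T ≫ pullback.fst g T.hom = pullback.fst (i ≫ g) T.hom ≫ i := by
  simp [mapXT]

theorem mapXT_proj (T : Over S) : mapXT i g T ≫ PicF.XTproj g T = PicF.XTproj (i ≫ g) T := by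
  simp [mapXT]

theorem isPullback_mapXT (T : Over S) :
    IsPullback (mapXT i g T) (pullback.fst (i ≫ g) T.hom) (pullback.fst g T.hom) i := by
  refine (IsPullback.of_right (h₂₂ := g) (h₁₂ := PicF.XTproj g T) (v₁₃ := T.hom) ?_
    (mapXT_fst i g T) (IsPullback.of_hasPullback g T.hom).flip)
  rw [mapXT_proj]
  exact (IsPullback.of_hasPullback (i ≫ g) T.hom).flip

instance [IsClosedImmersion i] (T : Over S) : IsClosedImmersion (mapXT i g T) :=
  MorphismProperty.of_isPullback (isPullback_mapXT i g T).flip ‹_›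

theorem ker_mapXT [IsClosedImmersion i] (T : Over S) :
    (mapXT i g T).ker = i.ker.comap (pullback.fst g T.hom) := by
  rw [← Scheme.IdealSheafData.ker_fst_of_isClosedImmersion,
    ← (isPullback_mapXT i g T).isoPullback_inv_fst, Scheme.Hom.ker_comp_of_isIso]

theorem XTmap_mapXT {T T' : Over S} (q : T' ⟶ T) :
    PicF.XTmap (i ≫ g) q ≫ mapXT i g T = mapXT i g T' ≫ PicF.XTmap g q := by
  apply pullback.hom_ext
  · rw [Category.assoc, mapXT_fst, ← Category.assoc, Basic.XTmap_fst, Category.assoc,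
      Basic.XTmap_fst, mapXT_fst]
  · rw [Category.assoc, mapXT_proj, Basic.XTmap_snd, Category.assoc, Basic.XTmap_snd,
      ← Category.assoc, mapXT_proj]

theorem ker_mapXT_pull [IsClosedImmersion i] {T T' : Over S} (q : T' ⟶ T) :
    (mapXT i g T).ker.comap (PicF.XTmap g q) = (mapXT i g T').ker := by
  rw [ker_mapXT, ker_mapXT, ← Scheme.IdealSheafData.comap_comp, Basic.XTmap_fst]

/-- Images commute with base change. -/
theorem pull_push [IsClosedImmersion i] {T T' : Over S} (q : T' ⟶ T)
    (I : (PicF.XT (i ≫ g) T).IdealSheafData) :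
    _root_.HilbD.pull g q (_root_.HilbD.push i g T I) =
      _root_.HilbD.push i g T' (_root_.HilbD.pull (i ≫ g) q I) := by
  show _root_.HilbD.pull g q (I.map (mapXT i g T)) =
    (_root_.HilbD.pull (i ≫ g) q I).map (mapXT i g T')
  rw [Basic.pull_eq_comap, Basic.pull_eq_comap]
  have hle : (mapXT i g T').ker ≤ (I.map (mapXT i g T)).comap (PicF.XTmap g q) := by
    rw [← ker_mapXT_pull i g q]
    exact Scheme.IdealSheafData.comap_mono _ (Scheme.Hom.le_ker_comp _ _)
  rw [← map_comap (mapXT i g T') hle, ← Scheme.IdealSheafData.comap_comp, ← XTmap_mapXT,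
    Scheme.IdealSheafData.comap_comp, comap_map]

end Groth.Agent.Lib.HilbD.Closed
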