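import Groth.Agent.Lib.Ideal.Comap
import Mathlib.AlgebraicGeometry.IdealSheaf.Functorial
import Mathlib.AlgebraicGeometry.Cover.Open

/-!
# Gluing ideal sheaves along an open cover
-/

universe u

open CategoryTheory CategoryTheory.Limits AlgebraicGeometry TopologicalSpace

namespace Groth.Agent.Lib.HilbD.Glue

set_option linter.style.haveILetI false
set_option backward.isDefEq.respectTransparency false

variable {Y : Scheme.{u}}

/-- Membership in an ideal sheaf is local. -/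
theorem mem_of_locally (L : Y.IdealSheafData) (A : Y.affineOpens) (x : Γ(Y, A.1))
    (h : ∀ y ∈ A.1, ∃ (B : Y.affineOpens) (hB : B.1 ≤ A.1), y ∈ B.1 ∧
      Y.presheaf.map (homOfLE hB).op x ∈ L.ideal B) : x ∈ L.ideal A := by
  choose B hBA hyB hx using h
  rw [← L.ker_subschemeι_app A, RingHom.mem_ker]
  refine L.subscheme.IsSheaf.section_ext fun z hz => ?_
  refine ⟨L.subschemeι ⁻¹ᵁ (B _ hz).1, L.subschemeι.preimage_mono (hBA _ hz), hyB _ hz, ?_⟩
  have h1 := hx _ hz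
  rw [← L.ker_subschemeι_app (B _ hz), RingHom.mem_ker] at h1
  rw [map_zero]
  refine Eq.trans ?_ h1
  exact (ConcreteCategory.congr_hom (L.subschemeι.naturality (homOfLE (hBA _ hz)).op) x).symm

section

variable {X : Scheme.{u}} (f : X ⟶ Y) [IsOpenImmersion f] (J : X.IdealSheafData)

/-- The ideal of `J` on an affine open inside the range of the open immersion. -/
def pushIdeal (A : Y.affineOpens) (hA : A.1 ≤ f.opensRange) : Ideal Γ(Y, A.1) :=
  Ideal.comap (f.appLE A.1 (f ⁻¹ᵁ A.1) le_rfl).hom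
    (J.ideal ⟨f ⁻¹ᵁ A.1, A.2.preimage_of_isOpenImmersion f hA⟩)

theorem bijective_appLE (A : Y.affineOpens) (hA : A.1 ≤ f.opensRange) :
    Function.Bijective (f.appLE A.1 (f ⁻¹ᵁ A.1) le_rfl).hom := by
  haveI : IsIso (f.app A.1) := f.isIso_app A.1 hA
  rw [← Scheme.Hom.app_eq_appLE]
  exact ConcreteCategory.bijective_of_isIso (f.app A.1)

theorem map_pushIdeal (A : Y.affineOpens) (hA : A.1 ≤ f.opensRange) :
    Ideal.map (f.appLE A.1 (f ⁻¹ᵁ A.1) le_rfl).hom (pushIdeal f J A hA) =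
      J.ideal ⟨f ⁻¹ᵁ A.1, A.2.preimage_of_isOpenImmersion f hA⟩ :=
  Ideal.map_comap_of_surjective _ (bijective_appLE f A hA).2 _

theorem pushIdeal_map {A B : Y.affineOpens} (hA : A.1 ≤ f.opensRange) (h : B.1 ≤ A.1) :
    Ideal.map (Y.presheaf.map (homOfLE h).op).hom (pushIdeal f J A hA) =
      pushIdeal f J B (h.trans hA) := by
  have hinj := bijective_appLE f B (h.trans hA)
  have h1 : Ideal.map (f.appLE B.1 (f ⁻¹ᵁ B.1) le_rfl).hom
      (Ideal.map (Y.presheaf.map (homOfLE h).op).hom (pushIdeal f J A hA)) =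
      Ideal.map (f.appLE B.1 (f ⁻¹ᵁ B.1) le_rfl).hom (pushIdeal f J B (h.trans hA)) := by
    rw [map_pushIdeal, Ideal.map_map, ← CommRingCat.hom_comp, Scheme.Hom.map_appLE,
      ← Scheme.Hom.appLE_map f (U := A.1) (V := f ⁻¹ᵁ A.1) le_rfl
        (homOfLE (f.preimage_mono h)).op, CommRingCat.hom_comp, ← Ideal.map_map, map_pushIdeal]
    exact J.map_ideal (U := ⟨f ⁻¹ᵁ B.1, B.2.preimage_of_isOpenImmersion f (h.trans hA)⟩)
      (V := ⟨f ⁻¹ᵁ A.1, A.2.preimage_of_isOpenImmersion f hA⟩) (f.preimage_mono h)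
  have := congrArg (Ideal.comap (f.appLE B.1 (f ⁻¹ᵁ B.1) le_rfl).hom) h1
  rwa [Ideal.comap_map_of_bijective _ hinj, Ideal.comap_map_of_bijective _ hinj] at this

theorem mem_pushIdeal_of_locally (A : Y.affineOpens) (hA : A.1 ≤ f.opensRange) (x : Γ(Y, A.1))
    (h : ∀ y ∈ A.1, ∃ (B : Y.affineOpens) (hB : B.1 ≤ A.1), y ∈ B.1 ∧
      Y.presheaf.map (homOfLE hB).op x ∈ pushIdeal f J B (hB.trans hA)) :
    x ∈ pushIdeal f J A hA := by
  refine Ideal.mem_comap.mpr (mem_of_locally J _ _ fun z hz => ?_)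
  obtain ⟨B, hB, hzB, hx⟩ := h (f z) hz
  refine ⟨⟨f ⁻¹ᵁ B.1, B.2.preimage_of_isOpenImmersion f (hB.trans hA)⟩, f.preimage_mono hB, hzB, ?_⟩
  have h2 : (f.appLE A.1 (f ⁻¹ᵁ A.1) le_rfl ≫ X.presheaf.map (homOfLE (f.preimage_mono hB)).op) x =
      (Y.presheaf.map (homOfLE hB).op ≫ f.appLE B.1 (f ⁻¹ᵁ B.1) le_rfl) x := by
    rw [Scheme.Hom.appLE_map, Scheme.Hom.map_appLE]
  rw [CommRingCat.comp_apply, CommRingCat.comp_apply] at h2
  exact (congrArg (· ∈ J.ideal _) h2).mpr (Ideal.mem_comap.mp hx)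

end

variable (𝓤 : Y.OpenCover) (J : ∀ i, (𝓤.X i).IdealSheafData)
  (hJ : ∀ i j, (J i).comap (pullback.fst (𝓤.f i) (𝓤.f j)) =
    (J j).comap (pullback.snd (𝓤.f i) (𝓤.f j)))

include hJ in
theorem pushIdeal_eq (i j : 𝓤.I₀) (A : Y.affineOpens) (hi : A.1 ≤ (𝓤.f i).opensRange)
    (hj : A.1 ≤ (𝓤.f j).opensRange) :
    pushIdeal (𝓤.f i) (J i) A hi = pushIdeal (𝓤.f j) (J j) A hj := by
  let a := pullback.fst (𝓤.f i) (𝓤.f j)
  let b := pullback.snd (𝓤.f i) (𝓤.f j)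
  let q := a ≫ 𝓤.f i
  have hr : A.1 ≤ q.opensRange := fun y hy => by
    obtain ⟨u, hu⟩ := hi hy
    obtain ⟨v, hv⟩ := hj hy
    obtain ⟨w, hw, -⟩ := Scheme.Pullback.exists_preimage_pullback u v (hu.trans hv.symm)
    exact ⟨w, (congrArg (𝓤.f i) hw).trans hu⟩
  have hW : IsAffineOpen (q ⁻¹ᵁ A.1) := A.2.preimage_of_isOpenImmersion q hr
  let W : (pullback (𝓤.f i) (𝓤.f j)).affineOpens := ⟨q ⁻¹ᵁ A.1, hW⟩
  have hqb : b ≫ 𝓤.f j = q := pullback.condition.symm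
  have ea : W.1 ≤ a ⁻¹ᵁ (𝓤.f i ⁻¹ᵁ A.1) := le_rfl
  have eb : W.1 ≤ b ⁻¹ᵁ (𝓤.f j ⁻¹ᵁ A.1) := fun w (hw : q w ∈ A.1) => by
    show (b ≫ 𝓤.f j) w ∈ A.1
    rw [hqb]; exact hw
  have h1 := congrArg (fun L : (pullback (𝓤.f i) (𝓤.f j)).IdealSheafData => L.ideal W) (hJ i j)
  rw [Ideal.Comap.ideal_comap a (J i) ⟨_, A.2.preimage_of_isOpenImmersion _ hi⟩ W ea,
    Ideal.Comap.ideal_comap b (J j) ⟨_, A.2.preimage_of_isOpenImmersion _ hj⟩ W eb,
    ← map_pushIdeal (𝓤.f i) (J i) A hi, ← map_pushIdeal (𝓤.f j) (J j) A hj, Ideal.map_map,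
    Ideal.map_map, ← CommRingCat.hom_comp, ← CommRingCat.hom_comp, Scheme.Hom.appLE_comp_appLE,
    Scheme.Hom.appLE_comp_appLE] at h1
  simp only [hqb] at h1
  have hbij : Function.Bijective (q.appLE A.1 W.1 le_rfl).hom := bijective_appLE q A hr
  have h2 := congrArg (Ideal.comap (q.appLE A.1 W.1 le_rfl).hom) h1
  rwa [Ideal.comap_map_of_bijective _ hbij, Ideal.comap_map_of_bijective _ hbij] at h2

/-- The ideal of the glued ideal sheaf. -/
def glueIdeal (W : Y.affineOpens) : Ideal Γ(Y, W.1) :=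
  ⨅ (i : 𝓤.I₀) (A : Y.affineOpens) (hA : A.1 ≤ W.1) (hi : A.1 ≤ (𝓤.f i).opensRange),
    Ideal.comap (Y.presheaf.map (homOfLE hA).op).hom (pushIdeal (𝓤.f i) (J i) A hi)

theorem mem_glueIdeal {W : Y.affineOpens} {x : Γ(Y, W.1)} :
    x ∈ glueIdeal 𝓤 J W ↔ ∀ (i : 𝓤.I₀) (A : Y.affineOpens) (hA : A.1 ≤ W.1)
      (hi : A.1 ≤ (𝓤.f i).opensRange),
      Y.presheaf.map (homOfLE hA).op x ∈ pushIdeal (𝓤.f i) (J i) A hi := by
  simp [glueIdeal, Submodule.mem_iInf]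

theorem res_res {A B C : Y.Opens} (hAB : B ≤ A) (hBC : C ≤ B) (x : Γ(Y, A)) :
    Y.presheaf.map (homOfLE hBC).op (Y.presheaf.map (homOfLE hAB).op x) =
      Y.presheaf.map (homOfLE (hBC.trans hAB)).op x := by
  rw [← CommRingCat.comp_apply, ← Functor.map_comp]
  rfl

include hJ in
theorem mem_glueIdeal_of_cover {W : Y.affineOpens} {x : Γ(Y, W.1)}
    (h : ∀ y ∈ W.1, ∃ (i : 𝓤.I₀) (A : Y.affineOpens) (hA : A.1 ≤ W.1)
      (hi : A.1 ≤ (𝓤.f i).opensRange), y ∈ A.1 ∧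
      Y.presheaf.map (homOfLE hA).op x ∈ pushIdeal (𝓤.f i) (J i) A hi) :
    x ∈ glueIdeal 𝓤 J W := by
  refine (mem_glueIdeal 𝓤 J).mpr fun j B hB hj => mem_pushIdeal_of_locally _ _ _ _ _ fun y hy => ?_
  obtain ⟨i, A, hA, hi, hyA, hx⟩ := h y (hB hy)
  obtain ⟨C, hC, hyC, hCle⟩ := exists_isAffineOpen_mem_and_subset (show y ∈ A.1 ⊓ B.1 from ⟨hyA, hy⟩)
  have hCA : C ≤ A.1 := fun z hz => (hCle hz).1
  have hCB : C ≤ B.1 := fun z hz => (hCle hz).2
  refine ⟨⟨C, hC⟩, hCB, hyC, ?_⟩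
  rw [← pushIdeal_eq 𝓤 J hJ i j ⟨C, hC⟩ (hCA.trans hi) (hCB.trans hj),
    ← pushIdeal_map (𝓤.f i) (J i) (B := ⟨C, hC⟩) hi hCA, res_res, ← res_res hA hCA x]
  exact Ideal.mem_map_of_mem _ hx

theorem glueIdeal_eq (hJ : ∀ i j, (J i).comap (pullback.fst (𝓤.f i) (𝓤.f j)) =
      (J j).comap (pullback.snd (𝓤.f i) (𝓤.f j)))
    (i : 𝓤.I₀) (A : Y.affineOpens) (hi : A.1 ≤ (𝓤.f i).opensRange) :
    glueIdeal 𝓤 J A = pushIdeal (𝓤.f i) (J i) A hi := by
  ext x
  constructor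
  · intro hx
    have := (mem_glueIdeal 𝓤 J).mp hx i A le_rfl hi
    simpa using this
  · exact fun hx => mem_glueIdeal_of_cover 𝓤 J hJ fun y hy => ⟨i, A, le_rfl, hi, hy, by simpa using hx⟩

include hJ in
/-- The glued ideal sheaf. -/
noncomputable def glue : Y.IdealSheafData where
  ideal := glueIdeal 𝓤 J
  map_ideal_basicOpen W a := by
    classical
    let W' : Y.affineOpens := Y.affineBasicOpen a
    let res : Γ(Y, W.1) ⟶ Γ(Y, W'.1) := Y.presheaf.map (homOfLE (Y.basicOpen_le a)).op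
    show Ideal.map res.hom (glueIdeal 𝓤 J W) = glueIdeal 𝓤 J W'
    apply le_antisymm
    · rw [Ideal.map_le_iff_le_comap]
      intro x hx
      refine Ideal.mem_comap.mpr ((mem_glueIdeal 𝓤 J).mpr fun i A hA hi => ?_)
      show Y.presheaf.map (homOfLE hA).op (res x) ∈ _
      rw [res_res]
      exact (mem_glueIdeal 𝓤 J).mp hx i A _ hi
    · intro z hz
      letI := res.hom.toAlgebra
      haveI : IsLocalization.Away a Γ(Y, W'.1) := W.2.isLocalization_basicOpen a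
      obtain ⟨⟨x, ⟨_, k, rfl⟩⟩, hxk⟩ := IsLocalization.surj (Submonoid.powers a) z
      simp only at hxk
      have hcov : ∀ y : W.1, ∃ (i : 𝓤.I₀) (A : Y.affineOpens) (_ : A.1 ≤ W.1)
          (_ : A.1 ≤ (𝓤.f i).opensRange), y.1 ∈ A.1 := fun y => by
        obtain ⟨i, u, hu⟩ := 𝓤.exists_eq y.1
        obtain ⟨A, hA, hyA, hle⟩ := exists_isAffineOpen_mem_and_subset
          (show y.1 ∈ W.1 ⊓ (𝓤.f i).opensRange from ⟨y.2, u, hu⟩)
        exact ⟨i, ⟨A, hA⟩, fun z hz => (hle hz).1, fun z hz => (hle hz).2, hyA⟩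
      choose i A hAW hAr hyA using hcov
      obtain ⟨s, hs⟩ := W.2.isCompact.elim_finite_subcover (fun y => ((A y).1 : Set Y))
        (fun y => (A y).1.2) (fun y hy => Set.mem_iUnion.mpr ⟨⟨y, hy⟩, hyA _⟩)
      have hk : ∀ y ∈ s, ∃ n : ℕ, Y.presheaf.map (homOfLE (hAW y)).op (a ^ n * x) ∈
          pushIdeal (𝓤.f (i y)) (J (i y)) (A y) (hAr y) := fun y _ => by
        let a' := Y.presheaf.map (homOfLE (hAW y)).op a
        let D : Y.affineOpens := Y.affineBasicOpen a'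
        have hDW' : D.1 ≤ W'.1 := by
          show Y.basicOpen a' ≤ Y.basicOpen a
          rw [show Y.basicOpen a' = _ from Y.basicOpen_res a (homOfLE (hAW y)).op]
          exact inf_le_right
        let resD : Γ(Y, (A y).1) ⟶ Γ(Y, D.1) := Y.presheaf.map (homOfLE (Y.basicOpen_le a')).op
        have hxD : Y.presheaf.map (homOfLE ((Y.basicOpen_le a').trans (hAW y))).op x =
            Y.presheaf.map (homOfLE hDW').op (res x) := (res_res _ hDW' x).symm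
        have h1 : resD (Y.presheaf.map (homOfLE (hAW y)).op x) ∈
            Ideal.map resD.hom (pushIdeal (𝓤.f (i y)) (J (i y)) (A y) (hAr y)) := by
          rw [pushIdeal_map (𝓤.f (i y)) (J (i y)) (B := D) (hAr y) (Y.basicOpen_le a')]
          show Y.presheaf.map (homOfLE (Y.basicOpen_le a')).op _ ∈ _
          rw [res_res]
          refine (congrArg (· ∈ pushIdeal (𝓤.f (i y)) (J (i y)) D
            ((Y.basicOpen_le a').trans (hAr y))) hxD).mpr ?_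
          have hxz : res x ∈ glueIdeal 𝓤 J W' := by
            have := Ideal.mul_mem_right (res (a ^ k)) _ hz
            exact (congrArg (· ∈ glueIdeal 𝓤 J W') hxk).mp this
          exact (mem_glueIdeal 𝓤 J).mp hxz (i y) D hDW' ((Y.basicOpen_le a').trans (hAr y))
        letI := resD.hom.toAlgebra
        haveI : IsLocalization.Away a' Γ(Y, D.1) := (A y).2.isLocalization_basicOpen a'
        obtain ⟨_, ⟨n, rfl⟩, hn⟩ := (IsLocalization.algebraMap_mem_map_algebraMap_iff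
          (Submonoid.powers a') _ _ _).mp h1
        exact ⟨n, by rw [map_mul, map_pow]; exact hn⟩
      choose! n hn using hk
      have hx' : a ^ (∑ y ∈ s, n y) * x ∈ glueIdeal 𝓤 J W := by
        refine mem_glueIdeal_of_cover 𝓤 J hJ fun y hy => ?_
        obtain ⟨v, hv, hyv⟩ := Set.mem_iUnion₂.mp (hs hy)
        refine ⟨i v, A v, hAW v, hAr v, hyv, ?_⟩
        rw [← Finset.add_sum_erase s n hv, pow_add, mul_comm (a ^ n v), mul_assoc, map_mul]
        exact Ideal.mul_mem_left _ _ (hn v hv)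
      have h2 := Ideal.mem_map_of_mem res.hom hx'
      rw [map_mul] at h2
      have h3 : res.hom x ∈ Ideal.map res.hom (glueIdeal 𝓤 J W) :=
        (Ideal.unit_mul_mem_iff_mem _ (IsLocalization.map_units _
          (⟨a ^ (∑ y ∈ s, n y), _, rfl⟩ : Submonoid.powers a))).mp h2
      refine (Ideal.mul_unit_mem_iff_mem _ (IsLocalization.map_units _
        (⟨a ^ k, k, rfl⟩ : Submonoid.powers a))).mp ?_
      exact hxk.symm ▸ h3

theorem comap_glue (i : 𝓤.I₀) : (glue 𝓤 J hJ).comap (𝓤.f i) = J i := by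
  refine Ideal.Comap.ext_of_affine_pairs (𝟙 _) fun _ B _ => ?_
  let A : Y.affineOpens := ⟨𝓤.f i ''ᵁ B.1, B.2.image_of_isOpenImmersion (𝓤.f i)⟩
  have hA : A.1 ≤ (𝓤.f i).opensRange := (𝓤.f i).image_le_opensRange B.1
  have hB : 𝓤.f i ⁻¹ᵁ A.1 = B.1 := (𝓤.f i).preimage_image_eq B.1
  let B' : (𝓤.X i).affineOpens := ⟨_, A.2.preimage_of_isOpenImmersion (𝓤.f i) hA⟩
  have key : ((glue 𝓤 J hJ).comap (𝓤.f i)).ideal B' = (J i).ideal B' := by
    rw [Ideal.Comap.ideal_comap (𝓤.f i) _ A B' le_rfl]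
    show Ideal.map _ (glueIdeal 𝓤 J A) = _
    rw [glueIdeal_eq 𝓤 J hJ i A hA]
    exact map_pushIdeal _ _ A hA
  have : B' = B := Subtype.ext hB
  rwa [this] at key

theorem ext {L L' : Y.IdealSheafData} (h : ∀ i, L.comap (𝓤.f i) = L'.comap (𝓤.f i)) : L = L' := by
  refine Scheme.IdealSheafData.ext_of_iSup_eq_top
    (fun p : Σ i, (𝓤.X i).affineOpens =>
      (⟨𝓤.f p.1 ''ᵁ p.2.1, p.2.2.image_of_isOpenImmersion (𝓤.f p.1)⟩ : Y.affineOpens)) ?_
    fun p => ?_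
  · refine eq_top_iff.mpr fun y _ => ?_
    obtain ⟨i, u, rfl⟩ := 𝓤.exists_eq y
    obtain ⟨B, hB, huB, -⟩ := exists_isAffineOpen_mem_and_subset
      (show u ∈ (⊤ : (𝓤.X i).Opens) from trivial)
    exact Opens.mem_iSup.mpr ⟨⟨i, B, hB⟩, u, huB, rfl⟩
  · have h1 := congrArg (fun K : (𝓤.X p.1).IdealSheafData => K.ideal p.2) (h p.1)
    simp only [Scheme.IdealSheafData.ideal_comap_of_isOpenImmersion] at h1
    exact Ideal.comap_injective_of_surjective _
      (ConcreteCategory.bijective_of_isIso ((𝓤.f p.1).appIso p.2.1).inv).2 h1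

end Groth.Agent.Lib.HilbD.Glue
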