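import Groth.Agent.Lib.HilbD.Content
import Groth.Agent.Lib.HilbD.Glue
import Mathlib.AlgebraicGeometry.Morphisms.Flat
import Mathlib.RingTheory.Flat.Basic

/-!
# Scheme-theoretic images and flat base change
-/

universe u

open CategoryTheory CategoryTheory.Limits AlgebraicGeometry
open scoped TensorProduct

namespace Groth.Agent.Lib.HilbD.FlatKer

set_option linter.style.haveILetI false
set_option backward.isDefEq.respectTransparency false

theorem ker_eq_map {A A' B B' : Type u} [CommRing A] [CommRing A'] [CommRing B] [CommRing B']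
    [Algebra A A'] [Algebra A B] [Algebra A B'] [Algebra A' B'] [Algebra B B']
    [IsScalarTower A A' B'] [IsScalarTower A B B'] [Module.Flat A A'] [Algebra.IsPushout A A' B B'] :
    RingHom.ker (algebraMap A' B') = Ideal.map (algebraMap A A') (RingHom.ker (algebraMap A B)) := by
  refine le_antisymm (fun x hx => ?_) ?_
  · let J : Ideal A := RingHom.ker (algebraMap A B)
    have hex : Function.Exact J.subtype (Algebra.linearMap A B) := fun a => by
      constructor
      · intro ha; exact ⟨⟨a, ha⟩, rfl⟩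
      · rintro ⟨⟨b, hb⟩, rfl⟩; exact hb
    have h2 := Module.Flat.lTensor_exact A' hex
    have hx0 : (Algebra.linearMap A B).lTensor A' (x ⊗ₜ[A] (1 : A)) = 0 := by
      rw [LinearMap.lTensor_tmul, Algebra.linearMap_apply, map_one]
      apply (Algebra.IsPushout.equiv A A' B B').injective
      rw [map_zero, Algebra.IsPushout.equiv_tmul, map_one, mul_one]
      exact hx
    obtain ⟨z, hz⟩ := (h2 _).mp hx0
    have hmem : ∀ z : A' ⊗[A] J, (TensorProduct.rid A A') (J.subtype.lTensor A' z) ∈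
        Ideal.map (algebraMap A A') J := by
      intro z
      induction z with
      | zero => simp
      | tmul a j =>
        simp only [LinearMap.lTensor_tmul, TensorProduct.rid_tmul, Algebra.smul_def]
        exact Ideal.mul_mem_right _ _ (Ideal.mem_map_of_mem _ j.2)
      | add a b ha hb => rw [map_add, map_add]; exact add_mem ha hb
    have := hmem z
    rw [hz, TensorProduct.rid_tmul, one_smul] at this
    exact this
  · rw [Ideal.map_le_iff_le_comap]
    intro a ha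
    rw [Ideal.mem_comap, RingHom.mem_ker, ← IsScalarTower.algebraMap_apply,
      IsScalarTower.algebraMap_apply A B B', RingHom.mem_ker.mp ha, map_zero]

variable {W W' Y Y' : Scheme.{u}}

theorem ker_comp_of_cover {T : Scheme.{u}} (c : T ⟶ W) (e : W ⟶ Y) [QuasiCompact e]
    (𝓤 : W.OpenCover) (hfac : ∀ i, ∃ s, s ≫ c = 𝓤.f i) :
    (c ≫ e).ker = e.ker := by
  refine le_antisymm ?_ (Scheme.Hom.le_ker_comp _ _)
  rw [← Scheme.Hom.iInf_ker_openCover_map_comp e 𝓤]
  refine le_iInf fun i => ?_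
  obtain ⟨s, hs⟩ := hfac i
  rw [← hs, Category.assoc]
  exact Scheme.Hom.le_ker_comp _ _

theorem ker_comap_of_isOpenImmersion (e : W ⟶ Y) [QuasiCompact e] {V V' : Scheme.{u}} (j : V ⟶ Y)
    [IsOpenImmersion j] {i : V' ⟶ W} {e'' : V' ⟶ V} (sq : IsPullback i e'' e j) :
    e''.ker = e.ker.comap j := by
  refine Scheme.IdealSheafData.ext_of_iSup_eq_top _ (iSup_affineOpens_eq_top _) fun A => ?_
  rw [Scheme.IdealSheafData.ideal_comap_of_isOpenImmersion]
  exact Scheme.ker_ideal_of_isPullback_of_isOpenImmersion _ _ _ _ sq.flip A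

variable {e' : W' ⟶ Y'} {q : W' ⟶ W} {p : Y' ⟶ Y} {e : W ⟶ Y}

theorem ker_comap_affine (sq : IsPullback q e' e p) [IsAffine W] [IsAffine Y] [IsAffine Y']
    [Flat p] : e.ker.comap p = e'.ker := by
  haveI : IsAffineHom e := inferInstance
  haveI : IsAffineHom e' := MorphismProperty.of_isPullback sq ‹IsAffineHom e›
  refine Scheme.IdealSheafData.ext_of_iSup_eq_top (fun _ : Unit => ⟨⊤, isAffineOpen_top Y'⟩)
    (by simp) fun _ => ?_
  let U : Y.affineOpens := ⟨⊤, isAffineOpen_top Y⟩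
  let U' : Y'.affineOpens := ⟨⊤, isAffineOpen_top Y'⟩
  have e1 : U'.1 ≤ p ⁻¹ᵁ U.1 := le_top
  have e2 : e' ⁻¹ᵁ U'.1 ≤ q ⁻¹ᵁ (e ⁻¹ᵁ U.1) := le_top
  have hpush := Content.isPushout_appLE sq U U' e1 e2
  have hfl := HasRingHomProperty.appLE @Flat p inferInstance U U' e1
  rw [Ideal.Comap.ideal_comap p _ U U' e1, Scheme.Hom.ker_apply, Scheme.Hom.ker_apply]
  letI := (p.appLE U.1 U'.1 e1).hom.toAlgebra
  letI := (e.app U.1).hom.toAlgebra
  letI := (e'.app U'.1).hom.toAlgebra
  letI := (q.appLE (e ⁻¹ᵁ U.1) (e' ⁻¹ᵁ U'.1) e2).hom.toAlgebra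
  letI := ((e'.app U'.1).hom.comp (p.appLE U.1 U'.1 e1).hom).toAlgebra
  haveI : IsScalarTower Γ(Y, U.1) Γ(Y', U'.1) Γ(W', e' ⁻¹ᵁ U'.1) := .of_algebraMap_eq' rfl
  haveI : IsScalarTower Γ(Y, U.1) Γ(W, e ⁻¹ᵁ U.1) Γ(W', e' ⁻¹ᵁ U'.1) :=
    .of_algebraMap_eq' (congrArg CommRingCat.Hom.hom hpush.w)
  haveI : Algebra.IsPushout Γ(Y, U.1) Γ(Y', U'.1) Γ(W, e ⁻¹ᵁ U.1) Γ(W', e' ⁻¹ᵁ U'.1) :=
    CommRingCat.isPushout_iff_isPushout.mp hpush
  haveI : Module.Flat Γ(Y, U.1) Γ(Y', U'.1) := RingHom.flat_algebraMap_iff.mp hfl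
  exact ker_eq_map.symm

theorem ker_comap_affineBase (sq : IsPullback q e' e p) [QuasiCompact e] [IsAffine Y] [IsAffine Y']
    [Flat p] : e.ker.comap p = e'.ker := by
  haveI : CompactSpace W := QuasiCompact.compactSpace_of_compactSpace e
  haveI : QuasiCompact e' := MorphismProperty.of_isPullback sq ‹QuasiCompact e›
  let 𝓤 := W.affineCover.finiteSubcover
  haveI : ∀ i, IsAffine (𝓤.X i) := fun i => by
    dsimp [𝓤, Scheme.OpenCover.finiteSubcover]; infer_instance
  let T := ∐ fun i => 𝓤.X i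
  let c : T ⟶ W := Sigma.desc 𝓤.f
  have sq' : IsPullback (pullback.fst c q) (pullback.snd c q ≫ e') (c ≫ e) p :=
    (IsPullback.of_hasPullback c q).paste_vert sq
  have h1 : (c ≫ e).ker = e.ker := ker_comp_of_cover c e 𝓤 fun i => ⟨Sigma.ι _ i, by simp [c]⟩
  haveI : IsAffineHom (c ≫ e) := inferInstance
  haveI : IsAffineHom (pullback.snd c q ≫ e') := MorphismProperty.of_isPullback sq' ‹_›
  have h2 : (pullback.snd c q ≫ e').ker = e'.ker := by
    refine ker_comp_of_cover _ e' (𝓤.pullback₁ q) fun i => ?_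
    refine ⟨pullback.lift (pullback.snd q (𝓤.f i) ≫ Sigma.ι _ i) (pullback.fst q (𝓤.f i)) ?_,
      pullback.lift_snd _ _ _⟩
    simp [c, pullback.condition]
  rw [← h1, ← h2]
  exact ker_comap_affine sq'

theorem ker_comap (sq : IsPullback q e' e p) [QuasiCompact e] [Flat p] :
    e.ker.comap p = e'.ker := by
  haveI : QuasiCompact e' := MorphismProperty.of_isPullback sq ‹QuasiCompact e›
  refine Scheme.IdealSheafData.ext_of_iSup_eq_top
    (fun z : {z : Y.affineOpens × Y'.affineOpens // z.2.1 ≤ p ⁻¹ᵁ z.1.1} => z.1.2) ?_ fun z => ?_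
  · refine eq_top_iff.mpr fun y _ => ?_
    obtain ⟨U, V, -, hyV, -, -, hle⟩ :=
      Ideal.Comap.exists_affine_le_preimage p y (show y ∈ (⊤ : Y'.Opens) from trivial)
        (show p y ∈ (⊤ : Y.Opens) from trivial)
    exact TopologicalSpace.Opens.mem_iSup.mpr ⟨⟨(U, V), hle⟩, hyV⟩
  obtain ⟨⟨U, V⟩, hle⟩ := z
  haveI : IsAffine (U.1 : Scheme.{u}) := U.2
  haveI : IsAffine (V.1 : Scheme.{u}) := V.2
  let pU := p.resLE U.1 V.1 hle
  let eU := pullback.snd e U.1.ι
  let eV := pullback.snd eU pU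
  have hU : eU.ker = e.ker.comap U.1.ι :=
    ker_comap_of_isOpenImmersion e U.1.ι (IsPullback.of_hasPullback e U.1.ι)
  have hsq2 : IsPullback (pullback.fst eU pU ≫ pullback.fst e U.1.ι) eV e (pU ≫ U.1.ι) :=
    (IsPullback.of_hasPullback eU pU).paste_horiz (IsPullback.of_hasPullback e U.1.ι)
  have hsq3 : IsPullback (sq.lift (pullback.fst eU pU ≫ pullback.fst e U.1.ι) (eV ≫ V.1.ι) (by
      rw [hsq2.w]; simp [pU])) eV e' V.1.ι := by
    refine IsPullback.of_right (h₁₂ := q) (h₂₂ := p) (v₁₃ := e) ?_ ?_ sq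
    · rw [sq.lift_fst]
      have : V.1.ι ≫ p = pU ≫ U.1.ι := (Scheme.Hom.resLE_comp_ι p hle).symm
      rw [this]; exact hsq2
    · rw [sq.lift_snd]
  have h1 : eV.ker = eU.ker.comap pU :=
    (ker_comap_affineBase (IsPullback.of_hasPullback eU pU)).symm
  have h2 : (e.ker.comap p).comap V.1.ι = e'.ker.comap V.1.ι := by
    rw [← Scheme.IdealSheafData.comap_comp, ← Scheme.Hom.resLE_comp_ι p hle,
      Scheme.IdealSheafData.comap_comp, ← hU, ← h1]
    exact ker_comap_of_isOpenImmersion e' V.1.ι hsq3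
  have h3 := congrArg (fun K : (V.1 : Scheme.{u}).IdealSheafData =>
    K.ideal ⟨⊤, isAffineOpen_top _⟩) h2
  simp only [Ideal.Comap.ideal_comap_ι_top] at h3
  have h4 := congrArg (Ideal.map V.1.topIso.hom.hom) h3
  rw [Ideal.map_map, Ideal.map_map, ← CommRingCat.hom_comp, Iso.inv_hom_id, CommRingCat.hom_id,
    Ideal.map_id, Ideal.map_id] at h4
  exact h4

end Groth.Agent.Lib.HilbD.FlatKer
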