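import Groth.Agent.Lib.HilbD.FlatKer
import Groth.Agent.Lib.HilbD.Basic
import Groth.Agent.Lib.DescAlg.Descends

/-!
# Flat descent of closed subschemes
-/

universe u

open CategoryTheory CategoryTheory.Limits AlgebraicGeometry

namespace Groth.Agent.Lib.HilbD.FppfDesc

set_option linter.style.haveILetI false
set_option linter.unusedSectionVars false
set_option backward.isDefEq.respectTransparency false

variable {Y' Y : Scheme.{u}} (q : Y' ⟶ Y) [Flat q] [Surjective q] [QuasiCompact q]

theorem prop_q : (@Surjective ⊓ @Flat ⊓ @QuasiCompact : MorphismProperty Scheme.{u}) q :=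
  ⟨⟨‹_›, ‹_›⟩, ‹_›⟩

theorem eq_of_le_of_comap_eq {J I : Y.IdealSheafData} (hJI : J ≤ I)
    (heq : J.comap q = I.comap q) : J = I := by
  let h := IsClosedImmersion.lift J.subschemeι I.subschemeι (by simpa using hJI)
  have hh : h ≫ J.subschemeι = I.subschemeι := IsClosedImmersion.lift_fac _ _ _
  let k := IsClosedImmersion.lift (J.comap q).subschemeι (I.comap q).subschemeι (by simp [heq])
  have hk : k ≫ (J.comap q).subschemeι = (I.comap q).subschemeι := IsClosedImmersion.lift_fac _ _ _
  haveI : IsIso k := IsClosedImmersion.isIso_of_ker_eq (I.comap q).subschemeι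
    (J.comap q).subschemeι k hk (by simp [heq])
  have sqJ := Basic.isPullback_comapMap q J
  have sqI := Basic.isPullback_comapMap q I
  have hcomm : Basic.comapMap q I ≫ h = k ≫ Basic.comapMap q J := by
    rw [← cancel_mono J.subschemeι, Category.assoc, hh, sqI.w, Category.assoc, sqJ.w,
      ← Category.assoc, hk]
  have sq : IsPullback (Basic.comapMap q I) k h (Basic.comapMap q J) := by
    refine IsPullback.of_bot (h₃₁ := q) ?_ hcomm sqJ
    rw [hk, hh]; exact sqI
  have hr : (@Surjective ⊓ @Flat ⊓ @QuasiCompact : MorphismProperty Scheme.{u})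
      (Basic.comapMap q J) :=
    MorphismProperty.of_isPullback sqJ.flip (prop_q q)
  haveI : IsIso h := MorphismProperty.of_isPullback_of_descendsAlong
    (P := MorphismProperty.isomorphisms Scheme.{u}) sq.flip hr ‹IsIso k›
  rw [← J.ker_subschemeι, ← I.ker_subschemeι, ← hh, Scheme.Hom.ker_comp_of_isIso]

/-- Two closed subschemes agreeing after an fpqc base change are equal. -/
theorem comap_injective {J I : Y.IdealSheafData} (heq : J.comap q = I.comap q) : J = I := by
  have h1 : J ≤ (J.comap q).map q := Scheme.IdealSheafData.le_map_comap J q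
  have h2 : I ≤ (J.comap q).map q := heq ▸ Scheme.IdealSheafData.le_map_comap I q
  have key : ∀ K : Y.IdealSheafData, K.comap q = J.comap q → K ≤ (J.comap q).map q →
      K = (J.comap q).map q := fun K hK hle => by
    refine eq_of_le_of_comap_eq q hle (le_antisymm (Scheme.IdealSheafData.comap_mono _ hle) ?_)
    rw [hK]
    exact Scheme.IdealSheafData.comap_map_le _ _
  exact (key J rfl h1).trans (key I heq.symm h2).symm

/-- Descent of a closed subscheme along a cover with its kernel pair `p₁, p₂`. -/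
theorem comap_map_of_descentData {R : Scheme.{u}} {p₁ p₂ : R ⟶ Y'} (sq : IsPullback p₁ p₂ q q)
    (K : Y'.IdealSheafData) (hK : K.comap p₁ = K.comap p₂) : (K.map q).comap q = K := by
  have sq' := (Basic.isPullback_comapMap p₁ K).paste_vert sq
  have h1 : (K.subschemeι ≫ q).ker.comap q = ((K.comap p₁).subschemeι ≫ p₂).ker :=
    FlatKer.ker_comap sq'
  rw [Scheme.IdealSheafData.map, h1, ← Scheme.IdealSheafData.map, hK]
  refine le_antisymm ?_ (Scheme.IdealSheafData.le_map_comap _ _)
  let δ := sq.lift (𝟙 Y') (𝟙 Y') rfl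
  have hδ : δ ≫ p₂ = 𝟙 Y' := sq.lift_snd _ _ _
  calc (K.comap p₂).map p₂ = (((K.comap p₂).map p₂).comap p₂).comap δ := by
        rw [← Scheme.IdealSheafData.comap_comp, hδ, Scheme.IdealSheafData.comap_id]
    _ ≤ (K.comap p₂).comap δ :=
        Scheme.IdealSheafData.comap_mono _ (Scheme.IdealSheafData.comap_map_le _ _)
    _ = K := by rw [← Scheme.IdealSheafData.comap_comp, hδ, Scheme.IdealSheafData.comap_id]

theorem finLocFreeOfDeg_descends {W' W T' T : Scheme.{u}} {r : W' ⟶ W} {e' : W' ⟶ T'} {e : W ⟶ T}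
    {g : T' ⟶ T} [Flat g] [Surjective g] [QuasiCompact g] (sq : IsPullback r e' e g) {d : ℕ}
    (h : Mor2.IsFinLocFreeOfDeg d e') : Mor2.IsFinLocFreeOfDeg d e := by
  obtain ⟨⟨h1, h2, h3⟩, hd⟩ := h
  have a1 : IsFinite e := MorphismProperty.of_isPullback_of_descendsAlong sq.flip (prop_q g) h1
  have a2 : Flat e := MorphismProperty.of_isPullback_of_descendsAlong sq.flip (prop_q g) h2
  have a3 : LocallyOfFinitePresentation e :=
    MorphismProperty.of_isPullback_of_descendsAlong sq.flip (prop_q g) h3
  refine ⟨⟨a1, a2, a3⟩, fun t => ?_⟩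
  obtain ⟨t', rfl⟩ := g.surjective t
  rw [← Scheme.Hom.finrank_of_isPullback _ _ _ _ sq t', hd]

end Groth.Agent.Lib.HilbD.FppfDesc
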