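import Groth.Agent.Lib.HilbD.Content
import Mathlib.RingTheory.Grassmannian
import Mathlib.LinearAlgebra.TensorProduct.RightExactness

/-!
# The locus of the Grassmannian of an algebra where the submodule is an ideal
-/

universe u

open CategoryTheory AlgebraicGeometry
open scoped TensorProduct

namespace Groth.Agent.Lib.HilbD.Stable

open Module.Grassmannian Groth.Agent.Lib.HilbD.Content

variable {R B : Type u} [CommRing R] [CommRing B] [Algebra R B] {e : ℕ}
variable {A C : Type u} [CommRing A] [Algebra R A] [CommRing C] [Algebra R C]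

/-- The submodule is stable under multiplication by `B`. -/
def IsStable (N : G(e, A ⊗[R] B; A)) : Prop :=
  ∀ (b : B) (x : A ⊗[R] B), x ∈ N.toSubmodule → ((1 : A) ⊗ₜ[R] b) * x ∈ N.toSubmodule

/-- The classes of the products in the quotient. -/
def defect (N : G(e, A ⊗[R] B; A)) : Set ((A ⊗[R] B) ⧸ N.toSubmodule) :=
  {y | ∃ b : B, ∃ x ∈ N.toSubmodule, N.toSubmodule.mkQ (((1 : A) ⊗ₜ[R] b) * x) = y}

/-- The ideal of the locus where the submodule is stable. -/
def defectIdeal (N : G(e, A ⊗[R] B; A)) : Ideal A :=
  contentIdeal A (defect N)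

theorem isStable_map_iff (f : A →ₐ[R] C) (N : G(e, A ⊗[R] B; A)) :
    IsStable (map f N) ↔ defectIdeal N ≤ RingHom.ker f.toRingHom := by
  let : Algebra A C := f.toAlgebra
  have : IsScalarTower R A C := IsScalarTower.of_algebraMap_eq' f.comp_algebraMap.symm
  let T := TensorProduct.AlgebraTensorModule.cancelBaseChange R A C C B
  let L : B → (A ⊗[R] B →ₗ[A] A ⊗[R] B) := fun b => LinearMap.mulLeft A ((1 : A) ⊗ₜ[R] b)
  have hmul : ∀ (b : B) (y : C ⊗[A] (A ⊗[R] B)),
      ((1 : C) ⊗ₜ[R] b) * T y = T ((L b).baseChange C y) := by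
    intro b y
    induction y using TensorProduct.induction_on with
    | zero => simp
    | tmul c x =>
      induction x using TensorProduct.induction_on with
      | zero => simp
      | tmul a b' =>
        simp [T, L, Algebra.TensorProduct.tmul_mul_tmul]
      | add x y hx hy =>
        simp only [TensorProduct.tmul_add, map_add, mul_add, hx, hy]
    | add x y hx hy => simp only [map_add, mul_add, hx, hy]
  have hker : ∀ z, z ∈ (map f N).toSubmodule ↔ N.toSubmodule.mkQ.baseChange C (T.symm z) = 0 :=
    fun z => Iff.rfl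
  rw [defectIdeal]
  refine Iff.trans ?_ (contentIdeal_le_ker_iff (A' := C) (defect N)).symm
  constructor
  · rintro h y ⟨b, x, hx, rfl⟩
    have h1 := (hker _).mp (h b (T ((1 : C) ⊗ₜ x)) ((hker _).mpr (by
      rw [LinearEquiv.symm_apply_apply, LinearMap.baseChange_tmul,
        Submodule.mkQ_apply, (Submodule.Quotient.mk_eq_zero _).mpr hx, TensorProduct.tmul_zero])))
    rw [hmul, LinearEquiv.symm_apply_apply] at h1
    simpa [L] using h1
  · intro h b z hz
    rw [hker] at hz ⊢
    obtain ⟨y, rfl⟩ := T.surjective z
    rw [hmul, LinearEquiv.symm_apply_apply]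
    rw [LinearEquiv.symm_apply_apply] at hz
    obtain ⟨w, rfl⟩ :=
      (lTensor_exact C (LinearMap.exact_subtype_mkQ N.toSubmodule)
        (Submodule.mkQ_surjective _) y).mp hz
    induction w using TensorProduct.induction_on with
    | zero => simp
    | tmul c x =>
      have h1 := congrArg (c • ·) (h _ ⟨b, x.1, x.2, rfl⟩)
      simpa [L, TensorProduct.smul_tmul'] using h1
    | add x y hx hy =>
      have hx' := hx ?_
      have hy' := hy ?_
      · simp only [map_add, hx', hy', add_zero]
      all_goals simp only [LinearMap.baseChange_eq_ltensor, ← LinearMap.lTensor_comp_apply,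
        (LinearMap.exact_subtype_mkQ N.toSubmodule).linearMap_comp_eq_zero]
      all_goals simp

theorem isStable_iff (N : G(e, A ⊗[R] B; A)) : IsStable N ↔ defectIdeal N = ⊥ := by
  have h := isStable_map_iff (AlgHom.id R A) N
  have hN : map (AlgHom.id R A) N = N := by
    ext : 1
    exact (TensorProduct.AlgebraTensorModule.ker_baseChange_comp_cancelBaseChange_symm
      N.toSubmodule.mkQ).trans N.toSubmodule.ker_mkQ
  rw [hN] at h
  rw [h, show (AlgHom.id R A).toRingHom = RingHom.id A from rfl,
    (RingHom.injective_iff_ker_eq_bot (RingHom.id A)).mp Function.injective_id, le_bot_iff]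

end Groth.Agent.Lib.HilbD.Stable
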